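import Cfsg.Agent.Lib.PSpAut.Field
import Cfsg.Agent.S0247

/-!
# Failure of local balance for `PSp_{2m}(F)`: field automorphisms of prime order
-/

set_option autoImplicit false

namespace Cfsg.Agent.Lib.PSpAut

open Matrix FieldDescent

/-! ### Normal subgroups of order prime to an odd prime -/

theorem perm_eq_one_of_central {α : Type*} [Fintype α] [DecidableEq α] (hα : 3 ≤ Fintype.card α)
    {n : Equiv.Perm α} (h : ∀ τ : Equiv.Perm α, τ * n * τ⁻¹ = n) : n = 1 := by
  refine Equiv.ext fun a => ?_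
  by_contra hne
  have hne : n a ≠ a := hne
  obtain ⟨c, hca, hcb⟩ : ∃ c : α, c ≠ a ∧ c ≠ n a := by
      by_contra hno
      push Not at hno
      have : Finset.univ ⊆ ({a, n a} : Finset α) := fun c _ => by
        by_cases hc : c = a
        · simp [hc]
        · simp [hno c hc]
      have := (Finset.card_le_card this).trans Finset.card_le_two
      rw [Finset.card_univ] at this
      omega
  have := DFunLike.congr_fun (mul_inv_eq_iff_eq_mul.1 (h (Equiv.swap a c))) a
  simp only [Equiv.Perm.mul_apply, Equiv.swap_apply_left] at this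
  rw [Equiv.swap_apply_of_ne_of_ne hne (Ne.symm hcb)] at this
  exact hca (n.injective this).symm

theorem perm_six_normal_coprime {p : ℕ} (hp : p.Prime) (hp2 : p ≠ 2)
    (hdvd : p ∣ Nat.card (Equiv.Perm (Fin 6))) (M : Subgroup (Equiv.Perm (Fin 6))) [hM : M.Normal]
    (hco : (Nat.card ↥M).Coprime p) : M = ⊥ := by
  haveI : IsSimpleGroup ↥(alternatingGroup (Fin 6)) := alternatingGroup.isSimpleGroup (by simp)
  haveI := hM.subgroupOf (alternatingGroup (Fin 6))
  rcases IsSimpleGroup.eq_bot_or_eq_top_of_normal (M.subgroupOf (alternatingGroup (Fin 6)))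
    inferInstance with h | h
  · refine (Subgroup.eq_bot_iff_forall _).2 fun n hn => perm_eq_one_of_central (by simp) fun τ => ?_
    have h1 : τ * n * τ⁻¹ * n⁻¹ ∈ M := mul_mem (hM.conj_mem n hn τ) (inv_mem hn)
    have h2 : τ * n * τ⁻¹ * n⁻¹ ∈ alternatingGroup (Fin 6) := by
      rw [Equiv.Perm.mem_alternatingGroup]
      rcases Int.units_eq_one_or (Equiv.Perm.sign n) with h4 | h4 <;>
        rcases Int.units_eq_one_or (Equiv.Perm.sign τ) with h5 | h5 <;> simp [h4, h5]
    have h3 := (Subgroup.eq_bot_iff_forall _).1 h ⟨_, h2⟩ h1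
    exact mul_inv_eq_one.1 (congrArg Subtype.val h3)
  · exfalso
    have hle : alternatingGroup (Fin 6) ≤ M := Subgroup.subgroupOf_eq_top.1 h
    have h360 : Nat.card ↥(alternatingGroup (Fin 6)) = 360 := by
      rw [nat_card_alternatingGroup]; simp [Nat.factorial]
    have h720 : Nat.card (Equiv.Perm (Fin 6)) = 2 * 360 := by
      simp [Fintype.card_perm, Nat.factorial]
    rw [h720] at hdvd
    have hp360 : p ∣ 360 := (hp.dvd_mul.1 hdvd).resolve_left fun h2 =>
      hp2 ((Nat.prime_dvd_prime_iff_eq hp Nat.prime_two).1 h2)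
    have := Subgroup.card_dvd_of_le hle
    rw [h360] at this
    exact hp.ne_one (Nat.eq_one_of_dvd_coprimes hco (hp360.trans this) dvd_rfl)

variable {F : Type*} [Field F] {m : ℕ}

local notation "V" => (Fin m ⊕ Fin m → F)
local notation "Sp" => (Matrix.symplecticGroup (Fin m) F)
local notation "GS" => (GSpT m F)
local notation "B" => Cfsg.sympForm m F
local notation "K'" => (Cfsg.PSp m F)

/-- A normal subgroup of `PSp` of order prime to `p` is trivial when `p` divides `|PSp|`. -/
theorem psp_normal_coprime [Fintype F] (hm : 2 ≤ m) {p : ℕ} (hp : p.Prime)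
    (hodd : Fintype.card F = 2 → p ≠ 2) (hdvd : p ∣ Nat.card K') (M : Subgroup K') [hM : M.Normal]
    (hco : (Nat.card ↥M).Coprime p) : M = ⊥ := by
  by_cases hs : m = 2 → 3 ≤ Fintype.card F
  · haveI := LinGroup.isSimpleGroup_PSp (F := F) hm hs
    refine (IsSimpleGroup.eq_bot_or_eq_top_of_normal M hM).resolve_right fun h => ?_
    rw [h, Subgroup.card_top] at hco
    exact hp.ne_one (Nat.eq_one_of_dvd_coprimes hco hdvd dvd_rfl)
  · push Not at hs
    obtain ⟨rfl, hq⟩ := hs
    have hq2 : Fintype.card F = 2 := by have := Fintype.one_lt_card (α := F); omega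
    obtain ⟨e⟩ := S0247.result (F := F) hq2
    have h2 : (2 : F) = 0 := by
      have h := Nat.cast_card_eq_zero F
      rw [hq2] at h
      exact_mod_cast h
    let e' : Cfsg.PSp 2 F ≃* Equiv.Perm (Fin 6) :=
      (MulEquiv.ofBijective proj ⟨proj_injective h2, proj_surjective⟩).symm.trans e
    haveI : (M.map e'.toMonoidHom).Normal := hM.map _ e'.surjective
    have h := perm_six_normal_coprime hp (hodd hq2) (by rwa [← Nat.card_congr e'.toEquiv])
      (M.map e'.toMonoidHom)
      (by rwa [Subgroup.card_map_of_injective e'.injective])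
    exact (Subgroup.map_eq_bot_iff_of_injective _ e'.injective).1 h

/-- An element of order two in `PSp` in odd characteristic. -/
theorem two_dvd_card_psp [Fintype F] (hm : 1 ≤ m) : 2 ∣ Nat.card K' := by
  set z : K' := proj (SymplecticGroup.symJ (Fin m) F) with hz
  have h1 : z ≠ 1 := by
    intro h
    obtain ⟨a, ha⟩ := scalar_of_mem_center (proj_eq_one_iff.1 h)
    have := congrFun (ha (Pi.single (.inl ⟨0, hm⟩) 1)) (.inr ⟨0, hm⟩)
    simp [LinGroup.spVec, SymplecticGroup.coe_J, Matrix.J] at this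
  have h2 : z ^ 2 = 1 := by
    rw [hz, ← map_pow, proj_eq_one_iff]
    rw [Subgroup.mem_center_iff]
    intro g
    refine Subtype.ext ?_
    simp [sq, SymplecticGroup.coe_J, Matrix.J_squared]
  rw [← orderOf_eq_prime h2 h1]
  exact orderOf_dvd_natCard z

/-! ### Automorphisms fixing a long root element -/

/-- Automorphisms induced by semisimilitudes. -/
def semiSub (m : ℕ) (F : Type*) [Field F] : Subgroup (MulAut (Cfsg.PSp m F)) where
  carrier := {α | ∃ (g : GSpT m F) (σ : F ≃+* F), α = conj g * fieldAut σ}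
  mul_mem' := by
    rintro _ _ ⟨g, σ, rfl⟩ ⟨h, τ, rfl⟩
    refine ⟨g * gspField σ h, σ * τ, ?_⟩
    rw [map_mul, map_mul, mul_assoc, ← mul_assoc (fieldAut σ), fieldAut_mul_conj]
    group
  one_mem' := ⟨1, 1, by rw [map_one, map_one, one_mul]⟩
  inv_mem' := by
    rintro _ ⟨g, σ, rfl⟩
    refine ⟨gspField σ⁻¹ g⁻¹, σ⁻¹, ?_⟩
    rw [_root_.mul_inv_rev, ← map_inv, ← map_inv, fieldAut_mul_conj]

theorem mem_semiSub {α : MulAut K'} :
    α ∈ semiSub m F ↔ ∃ (g : GS) (σ : F ≃+* F), α = conj g * fieldAut σ := Iff.rfl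

/-- An automorphism sending one long root element to a transvection is semilinear. -/
theorem mem_semiSub_of_long [Fintype F] (hm : 2 ≤ m) (α : MulAut K')
    (hα : α (tp (ev (⟨0, by omega⟩ : Fin m)) 1) ∈ tvSet m F) : α ∈ semiSub m F := by
  obtain ⟨p, hp⟩ := CharP.exists F
  haveI := hp
  haveI : Fact p.Prime := ⟨CharP.char_is_prime F p⟩
  by_cases h4 : m = 2 → p ≠ 2
  · exact exists_eq_conj_mul_fieldAut hm h4 α
  push Not at h4
  obtain ⟨rfl, rfl⟩ := h4
  have h2 : (2 : F) = 0 := by exact_mod_cast CharP.cast_eq_zero F 2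
  obtain ⟨w, hw, d, hd, he⟩ := hα
  refine exists_semisimilitude_of_preserves le_rfl α ?_
  rintro _ ⟨v, hv, c, hc, rfl⟩
  obtain ⟨g, hg⟩ := exists_tp_conj h2 hv hc
  obtain ⟨k, hk⟩ := proj_surjective (α (proj g))
  rw [hg, map_mul, map_mul, map_inv, show (0 : Fin 2) = ⟨0, by omega⟩ from rfl, he, ← hk, conj_proj_tp]
  exact tp_mem_tvSet (fun h0 => hw (LinGroup.spVec_injective k (h0.trans (by simp [LinGroup.spVec])))) hd

/-- Automorphisms of odd order are semilinear. -/
theorem mem_semiSub_of_odd [Fintype F] (hm : 2 ≤ m) (hs : m = 2 → 3 ≤ Fintype.card F)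
    (α : MulAut K') (hα : (m = 2 ∧ (2 : F) = 0) → Odd (orderOf α)) : α ∈ semiSub m F := by
  by_cases h24 : m = 2 ∧ (2 : F) = 0
  · obtain ⟨rfl, h2⟩ := h24
    set τ := graphAut4 h2 (hs rfl)
    have hidx : (semiSub 2 F).index ≤ 2 := by
      rw [Subgroup.index_eq_card]
      let f : Bool → MulAut (Cfsg.PSp 2 F) ⧸ semiSub 2 F := fun b =>
        if b then (τ : MulAut (Cfsg.PSp 2 F) ⧸ semiSub 2 F) else ((1 : MulAut (Cfsg.PSp 2 F)) : MulAut (Cfsg.PSp 2 F) ⧸ semiSub 2 F)
      have hf : Function.Surjective f := by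
        intro y
        induction y using Quotient.inductionOn' with
        | h β =>
          obtain ⟨ε, g, σ, hε, rfl⟩ := exists_eq_graph_mul h2 (hs rfl) β
          have hmem : conj g * fieldAut σ ∈ semiSub 2 F := ⟨g, σ, rfl⟩
          rcases hε with rfl | rfl
          · exact ⟨false, (QuotientGroup.mk_mul_of_mem 1 hmem).symm⟩
          · exact ⟨true, (QuotientGroup.mk_mul_of_mem τ hmem).symm⟩
      have := Nat.card_le_card_of_surjective f hf
      simpa using this
    obtain ⟨k, hk⟩ := hα ⟨rfl, h2⟩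
    have hpow : α = (α ^ (k + 1)) ^ 2 := by
      rw [← pow_mul, show (k + 1) * 2 = orderOf α + 1 by omega, pow_succ, pow_orderOf_eq_one, one_mul]
    rw [hpow]
    have hne : (semiSub 2 F).index ≠ 0 := Subgroup.index_ne_zero_of_finite
    rcases (by omega : (semiSub 2 F).index = 1 ∨ (semiSub 2 F).index = 2) with hi | hi
    · rw [Subgroup.index_eq_one.1 hi]; exact Subgroup.mem_top _
    · exact Subgroup.sq_mem_of_index_two hi _
  · obtain ⟨p, hp⟩ := CharP.exists F
    haveI := hp
    haveI : Fact p.Prime := ⟨CharP.char_is_prime F p⟩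
    exact exists_eq_conj_mul_fieldAut (p := p) hm (fun hm2 hp2 => h24 ⟨hm2, by
      subst hp2; exact_mod_cast CharP.cast_eq_zero F 2⟩) α

/-! ### Rational elements -/

section Rational

variable (σ : F ≃+* F)

theorem sv_gv (g : GS) (v : V) : sv σ (gv g.1 v) = gv (gspField σ g).1 (sv σ v) :=
  (map_mulVec_sv σ _ v).symm

theorem spFieldFun_sympTransElem (v : V) (c : F) :
    spFieldFun σ (Forms.sympTransElem v c) = Forms.sympTransElem (sv σ v) (σ c) := by
  refine LinGroup.spVec_ext fun x => ?_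
  have hx : x = sv σ (sv σ.symm x) := by funext i; simp [sv]
  rw [hx, spVec_spFieldFun, LinGroup.spVec_sympTransElem, LinGroup.spVec_sympTransElem, sympForm_sv]
  funext i
  simp [sv]

theorem incl_mem (s : Matrix.symplecticGroup (Fin m) ↥(fixedField σ)) :
    (s : Matrix (Fin m ⊕ Fin m) (Fin m ⊕ Fin m) ↥(fixedField σ)).map (fixedField σ).subtype
      ∈ Matrix.symplecticGroup (Fin m) F := by
  have h := SymplecticGroup.mem_iff.1 s.2
  have h' := congrArg (fun M : Matrix (Fin m ⊕ Fin m) (Fin m ⊕ Fin m) ↥(fixedField σ) => M.map (fixedField σ).subtype) h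
  rw [SymplecticGroup.mem_iff]
  simp only [Matrix.map_mul, map_J, Matrix.transpose_map] at h'
  exact h'

/-- The symplectic group of the fixed field inside `Sp`. -/
def inclSp : Matrix.symplecticGroup (Fin m) ↥(fixedField σ) →* Sp where
  toFun s := ⟨_, incl_mem σ s⟩
  map_one' := Subtype.ext (Matrix.map_one _ (map_zero _) (map_one _))
  map_mul' s t := Subtype.ext (by simp only [Submonoid.coe_mul, Matrix.map_mul])

theorem coe_inclSp (s : Matrix.symplecticGroup (Fin m) ↥(fixedField σ)) :
    ((inclSp σ s : Sp) : Matrix (Fin m ⊕ Fin m) (Fin m ⊕ Fin m) F)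
      = (s : Matrix (Fin m ⊕ Fin m) (Fin m ⊕ Fin m) ↥(fixedField σ)).map (fixedField σ).subtype := rfl

theorem inclSp_injective : Function.Injective (inclSp (m := m) σ) := fun s t h =>
  Subtype.ext (Matrix.map_injective (fixedField σ).subtype_injective (congrArg Subtype.val h))

theorem exists_inclSp {s : Sp} (h : spFieldFun σ s = s) : ∃ s₀, inclSp σ s₀ = s := by
  have hij : ∀ i j, (s : Matrix (Fin m ⊕ Fin m) (Fin m ⊕ Fin m) F) i j ∈ fixedField σ := fun i j => by
    show σ _ = _
    conv_rhs => rw [← h]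
    rfl
  let M : Matrix (Fin m ⊕ Fin m) (Fin m ⊕ Fin m) ↥(fixedField σ) := Matrix.of fun i j => ⟨_, hij i j⟩
  have hM : M.map (fixedField σ).subtype = (s : Matrix (Fin m ⊕ Fin m) (Fin m ⊕ Fin m) F) := by
    ext i j; rfl
  have hmem : M ∈ Matrix.symplecticGroup (Fin m) ↥(fixedField σ) := by
    rw [SymplecticGroup.mem_iff]
    refine Matrix.map_injective (fixedField σ).subtype_injective ?_
    simp only [Matrix.map_mul, map_J, Matrix.transpose_map, hM]
    exact SymplecticGroup.mem_iff.1 s.2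
  exact ⟨⟨M, hmem⟩, Subtype.ext hM⟩

theorem inclSp_center {s : Matrix.symplecticGroup (Fin m) ↥(fixedField σ)} :
    inclSp σ s ∈ Subgroup.center Sp ↔ s ∈ Subgroup.center (Matrix.symplecticGroup (Fin m) ↥(fixedField σ)) := by
  constructor
  · intro h
    rw [Subgroup.mem_center_iff] at h ⊢
    intro t
    apply inclSp_injective σ
    rw [map_mul, map_mul, h]
  · intro h
    obtain ⟨a, ha⟩ := scalar_of_mem_center h
    have hM : (s : Matrix (Fin m ⊕ Fin m) (Fin m ⊕ Fin m) ↥(fixedField σ)) = a • 1 := Matrix.ext_iff_mulVec.2 fun v => by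
      rw [Matrix.smul_mulVec, Matrix.one_mulVec]; exact ha v
    rw [Subgroup.mem_center_iff]
    intro t
    refine Subtype.ext ?_
    rw [Submonoid.coe_mul, Submonoid.coe_mul, coe_inclSp, hM,
      Matrix.map_smul' (fixedField σ).subtype a 1 (map_mul _), Matrix.map_one _ (map_zero _) (map_one _)]
    simp

/-- `PSp` of the fixed field inside `PSp`. -/
def inclPSp : Cfsg.PSp m ↥(fixedField σ) →* K' :=
  QuotientGroup.lift _ (proj.comp (inclSp σ)) fun s hs =>
    proj_eq_one_iff.2 ((inclSp_center σ).2 hs)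

theorem inclPSp_proj (s : Matrix.symplecticGroup (Fin m) ↥(fixedField σ)) :
    inclPSp σ (proj s) = proj (inclSp σ s) := rfl

theorem inclPSp_injective : Function.Injective (inclPSp (m := m) σ) := by
  rw [injective_iff_map_eq_one]
  intro x hx
  obtain ⟨s, rfl⟩ := proj_surjective x
  rw [inclPSp_proj, proj_eq_one_iff, inclSp_center] at hx
  exact proj_eq_one_iff.2 hx

theorem tp_mem_range {v : V} {c : F} (hv : sv σ v = v) (hc : σ c = c) :
    tp v c ∈ (inclPSp σ : Cfsg.PSp m ↥(fixedField σ) →* K').range := by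
  obtain ⟨s, hs⟩ := exists_inclSp σ (s := Forms.sympTransElem v c)
    (by rw [spFieldFun_sympTransElem, hv, hc])
  exact ⟨proj s, by rw [inclPSp_proj, hs]; rfl⟩

theorem sv_single (i : Fin m ⊕ Fin m) (a : F) : sv σ (Pi.single i a) = Pi.single i (σ a) := by
  funext j
  by_cases hji : j = i
  · subst hji; simp [sv]
  · simp [sv, hji]

theorem sv_ev (i : Fin m) : sv σ (ev i : V) = ev i := by
  have : (ev i : V) = Pi.single (.inl i) 1 := by
    funext j
    rcases j with j | j <;> simp [ev, LinGroup.isoVec, Pi.single_apply]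
  rw [this, sv_single, map_one]

theorem fieldAut_tp_fixed {v : V} {c : F} (hv : sv σ v = v) (hc : σ c = c) :
    fieldAut σ (tp v c) = tp v c := by
  rw [fieldAut_tp, hv, hc]

/-- An automorphism fixing all the rational transvections is a power of the field automorphism. -/
theorem eq_fieldAut_of_fix [Fintype F] (hm : 2 ≤ m) (a : MulAut K')
    (hfix : ∀ (v : V) (c : F), sv σ v = v → σ c = c → a (tp v c) = tp v c) :
    ∃ τ : F ≃+* F, (∀ y : F, σ y = y → τ y = y) ∧ a = fieldAut τ := by
  classical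
  obtain ⟨g, τ, rfl⟩ := mem_semiSub_of_long hm a (by
    rw [hfix _ 1 (sv_ev σ _) (map_one σ)]
    exact tp_mem_tvSet (LinGroup.isoVec_ne_zero _) one_ne_zero)
  have key : ∀ v : V, v ≠ 0 → sv σ v = v → ∃ t : F, t ≠ 0 ∧ gv g.1 (sv τ v) = t • v := fun v hv hr => by
    have := hfix v 1 hr (map_one σ)
    rw [MulAut.mul_apply, fieldAut_tp, conj_tp] at this
    exact eq_smul_of_mem_span_singleton (mem_span_of_tp_eq hm (gv_ne_zero _ (sv_ne_zero τ hv))
      (mul_ne_zero (by simp) (Units.ne_zero _)) this) (gv_ne_zero _ (sv_ne_zero τ hv))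
  let e : Fin m ⊕ Fin m → V := fun i => Pi.single i 1
  have hse : ∀ (ρ : F ≃+* F) i, sv ρ (e i) = e i := fun ρ i => by rw [sv_single, map_one]
  choose t ht0 ht using fun i => key (e i) (by simp [e]) (hse σ i)
  have hge : ∀ i, gv g.1 (e i) = t i • e i := fun i => by
    have := ht i; rwa [hse] at this
  have hadd : ∀ (ρ : F ≃+* F) (i j : Fin m ⊕ Fin m) (a : F),
      sv ρ (e i + a • e j) = e i + ρ a • e j := fun ρ i j a => by
    funext k
    have h1 := congrFun (hse ρ i) k
    have h2 := congrFun (hse ρ j) k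
    simp only [sv, Pi.add_apply, Pi.smul_apply, smul_eq_mul, map_add, map_mul] at h1 h2 ⊢
    rw [h1, h2]
  have hcomb : ∀ (i j : Fin m ⊕ Fin m) (a : F), i ≠ j → σ a = a → τ a * t j = a * t i := by
    intro i j a hij ha
    have hne : e i + a • e j ≠ 0 := fun h0 => by simpa [e, hij] using congrFun h0 i
    obtain ⟨s, -, hs⟩ := key _ hne (by rw [hadd, ha])
    rw [hadd, gv, mulVec_add, mulVec_smul] at hs
    change gv g.1 (e i) + τ a • gv g.1 (e j) = _ at hs
    rw [hge, hge] at hs
    have h1 := congrFun hs i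
    have h2 := congrFun hs j
    simp [e, hij, Ne.symm hij] at h1 h2
    rw [h2, h1, mul_comm]
  obtain ⟨i₀, j₀, hij⟩ : ∃ i j : Fin m ⊕ Fin m, i ≠ j :=
    ⟨.inl ⟨0, by omega⟩, .inr ⟨0, by omega⟩, Sum.inl_ne_inr⟩
  have htt : ∀ k, t k = t i₀ := fun k => by
    by_cases hk : k = i₀
    · rw [hk]
    · have := hcomb i₀ k 1 (Ne.symm hk) (map_one σ)
      simpa using this
  refine ⟨τ, fun y hy => ?_, ?_⟩
  · have := hcomb i₀ j₀ y hij hy
    rw [htt j₀] at this
    exact mul_right_cancel₀ (ht0 i₀) this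
  · rw [conj_eq_one_of_scalar g (c := t i₀), one_mul]
    intro v
    rw [show v = ∑ k, v k • e k from IsPointMap.sum_single v, gv, Matrix.mulVec_sum, Finset.smul_sum]
    refine Finset.sum_congr rfl fun k _ => ?_
    rw [mulVec_smul]
    show v k • gv g.1 (e k) = _
    rw [hge, htt, smul_comm]

/-- An automorphism fixing the fixed field of `σ` has order dividing that of `σ`. -/
theorem pow_orderOf_of_fix [Fintype F] {τ : F ≃+* F} (h : ∀ y : F, σ y = y → τ y = y) :
    τ ^ orderOf σ = 1 := by
  classical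
  haveI : Fintype ↥(fixedField σ) := Fintype.ofFinite _
  let τ' : F ≃ₐ[↥(fixedField σ)] F := AlgEquiv.ofRingEquiv (f := τ) (fun y => h y y.2)
  have hfr : Module.finrank ↥(fixedField σ) F = orderOf σ := by
    have h1 := card_eq_pow σ
    rw [Module.natCard_eq_pow_finrank (K := ↥(fixedField σ))] at h1
    exact Nat.pow_right_injective (one_lt_card_fixed σ) h1
  have hcard : Nat.card (F ≃ₐ[↥(fixedField σ)] F) = orderOf σ := by
    rw [← hfr, ← Nat.card_eq_of_bijective _ (FiniteField.bijective_frobeniusAlgEquivOfAlgebraic_pow ↥(fixedField σ) F),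
      Nat.card_fin]
  have h1 : τ' ^ orderOf σ = 1 := by rw [← hcard]; exact pow_card_eq_one'
  refine RingEquiv.ext fun y => ?_
  have h2 : ∀ (k : ℕ) (z : F), (τ ^ k) z = (τ' ^ k) z := by
    intro k
    induction k with
    | zero => intro z; rfl
    | succ k ih => intro z; rw [pow_succ, pow_succ]; exact ih (τ z)
  rw [h2, h1]
  rfl

end Rational

/-! ### Main argument -/

theorem psp_center_eq_bot [Fintype F] (hm : 2 ≤ m) (hK : IsSimpleGroup K') :
    Subgroup.center K' = ⊥ := by
  refine (IsSimpleGroup.eq_bot_or_eq_top_of_normal _ inferInstance).resolve_right fun h => ?_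
  let i₀ : Fin m := ⟨0, by omega⟩
  have hv : (ev i₀ : V) ≠ 0 := LinGroup.isoVec_ne_zero _
  obtain ⟨x, hx⟩ := exists_sympForm_ne_zero hv
  have hx0 : x ≠ 0 := fun h0 => hx (by rw [h0, LinGroup.sympForm_zero_left])
  refine hx ((commute_tp_iff hm hv hx0 (one_ne_zero : (1 : F) ≠ 0) (one_ne_zero : (1 : F) ≠ 0)).1 ?_)
  have := h.ge (Subgroup.mem_top (tp x 1))
  exact (Subgroup.mem_center_iff.1 this _)

theorem psp_conj_injective [Fintype F] (hm : 2 ≤ m) (hK : IsSimpleGroup K') :
    Function.Injective (MulAut.conj : K' →* MulAut K') := by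
  rw [injective_iff_map_eq_one]
  intro k hk
  rw [← Subgroup.mem_bot, ← psp_center_eq_bot hm hK, Subgroup.mem_center_iff]
  intro y
  have := DFunLike.congr_fun hk y
  rw [MulAut.conj_apply, MulAut.one_apply] at this
  exact (mul_inv_eq_iff_eq_mul.1 this).symm

theorem mulAut_mul_conj (α : MulAut K') (k : K') : α * MulAut.conj k * α⁻¹ = MulAut.conj (α k) := by
  ext y
  simp

/-- The criterion at a standard field automorphism of prime order. -/
theorem core_fieldAut_iff [Fintype F] (hm : 2 ≤ m) (hK : IsSimpleGroup K') {p : ℕ} (hp : p.Prime)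
    (σ : F ≃+* F) (hσ : orderOf σ = p) (hchar : (2 : F) = 0 → p ≠ 2)
    (A : Subgroup (MulAut K')) (hinn : ∀ k : K', MulAut.conj k ∈ A) :
    Cfsg.pPrimeCore p ↥(A ⊓ Subgroup.centralizer {(fieldAut σ : MulAut K')}) ≠ ⊥ ↔
      Nat.Coprime p (Nat.card ↥(MonoidHom.eqLocus (fieldAut σ : MulAut K').toMonoidHom (MonoidHom.id K'))) := by
  classical
  set φ : MulAut K' := fieldAut σ with hφ
  set C := A ⊓ Subgroup.centralizer {φ} with hC
  set CK := MonoidHom.eqLocus φ.toMonoidHom (MonoidHom.id K') with hCK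
  have hinj := psp_conj_injective hm hK
  haveI : Finite (MulAut K') := Finite.of_injective (fun e : MulAut K' => (e : K' → K')) DFunLike.coe_injective
  have hmemC : ∀ k : K', φ k = k → MulAut.conj k ∈ C := fun k hk => by
    refine ⟨hinn k, Subgroup.mem_centralizer_singleton_iff.2 ?_⟩
    have := mulAut_mul_conj φ k
    rw [hk] at this
    exact (mul_inv_eq_iff_eq_mul.1 this).symm
  have hfixC : ∀ a ∈ C, ∀ k : K', φ k = k → φ (a k) = a k := fun a ha k hk => by
    have := Subgroup.mem_centralizer_singleton_iff.1 ha.2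
    calc φ (a k) = (φ * a) k := rfl
      _ = (a * φ) k := by rw [this]
      _ = a k := by rw [MulAut.mul_apply, hk]
  constructor
  · -- `p` divides the number of fixed points: the core is trivial
    intro hne
    rw [Nat.Prime.coprime_iff_not_dvd hp]
    intro hdvd
    apply hne
    refine eq_bot_iff.2 (sSup_le ?_)
    rintro N₀ ⟨hN₀, hco₀⟩
    set N := N₀.map C.subtype with hN
    have hcoN : (Nat.card ↥N).Coprime p := by
      rwa [hN, Subgroup.card_map_of_injective C.subtype_injective]
    have hNC : N ≤ C := by rintro _ ⟨n, -, rfl⟩; exact n.2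
    have hnormN : ∀ c ∈ C, ∀ n ∈ N, c * n * c⁻¹ ∈ N := by
      rintro c hc _ ⟨n, hn, rfl⟩
      exact ⟨⟨c, hc⟩ * n * ⟨c, hc⟩⁻¹, hN₀.conj_mem n hn _, rfl⟩
    suffices hbot : N = ⊥ by
      rw [hN, Subgroup.map_eq_bot_iff_of_injective _ C.subtype_injective] at hbot
      exact hbot.le
    -- the group over the fixed field
    haveI : Fintype ↥(fixedField σ) := Fintype.ofFinite _
    set j : Cfsg.PSp m ↥(fixedField σ) →* MulAut K' := (MulAut.conj).comp (inclPSp σ) with hj
    have hjinj : Function.Injective j := hinj.comp (inclPSp_injective σ)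
    have hjfix : ∀ x, φ (inclPSp σ x) = inclPSp σ x := fun x => by
      obtain ⟨s, rfl⟩ := proj_surjective x
      rw [inclPSp_proj, hφ, fieldAut_proj]
      refine congrArg proj (Subtype.ext ?_)
      ext i k
      exact ((s : Matrix (Fin m ⊕ Fin m) (Fin m ⊕ Fin m) ↥(fixedField σ)) i k).2
    have hjC : ∀ x, j x ∈ C := fun x => hmemC _ (hjfix x)
    -- `p` divides its order
    have hdvd0 : p ∣ Nat.card (Cfsg.PSp m ↥(fixedField σ)) := by
      by_cases hp2 : p = 2
      · subst hp2; exact two_dvd_card_psp (by omega)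
      haveI : Fact p.Prime := ⟨hp⟩
      obtain ⟨z, hz⟩ := exists_prime_orderOf_dvd_card' p hdvd
      obtain ⟨s, hs⟩ := proj_surjective (z : K')
      have hcomm : conj (spGSp s) ∈ Subgroup.centralizer {φ} := by
        rw [conj_spGSp, hs]
        exact (hmemC _ z.2).2
      obtain ⟨c, hc⟩ := (commute_field_iff hm σ _).1 hcomm
      obtain ⟨μ, h, heq, hh⟩ := exists_fixed_of_commute (by omega) σ hc
      have hm1 : 1 ≤ m := by omega
      set d := multHom hm1 h with hd
      have hdσ : Units.map σ.toRingHom.toMonoidHom d = d := by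
        rw [hd, ← multHom_gspField, hh]
      obtain ⟨s', hs'⟩ := exists_spGSp_of_mult hm1 (g := (scalarG m d : GS)⁻¹ * (h * h))
        (by rw [map_mul, map_inv, map_mul, multHom_scalarG, ← hd, inv_mul_cancel])
      have hfix' : spFieldFun σ s' = s' := by
        apply spGSp_injective
        have h1 : spGSp (spFieldFun σ s') = gspField σ (spGSp s' : GS) := Subtype.ext (Units.ext rfl)
        have h2 : gspField σ (scalarG m d : GS) = scalarG m d := Subtype.ext (by
          rw [coe_gspField, coe_scalarG, GeneralLinearGroup.map_scalar]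
          exact congrArg _ hdσ)
        rw [h1, hs', map_mul, map_inv, map_mul, hh, h2]
      obtain ⟨s₀, hs₀⟩ := exists_inclSp σ hfix'
      have hz2 : inclPSp σ (proj s₀) = (z : K') ^ 2 := by
        apply hinj
        rw [inclPSp_proj, hs₀, map_pow, ← hs, ← conj_spGSp, ← conj_spGSp, hs', heq, map_mul, map_inv,
          map_mul, map_mul, conj_scalarG, conj_scalarG, inv_one, one_mul, one_mul, sq]
      have hord : orderOf (proj s₀) = p := by
        have hcop : (orderOf (z : K')).Coprime 2 := by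
          rw [Subgroup.orderOf_coe, hz]
          exact (Nat.coprime_primes hp Nat.prime_two).2 hp2
        rw [← orderOf_injective (inclPSp σ) (inclPSp_injective σ), hz2, hcop.orderOf_pow,
          Subgroup.orderOf_coe, hz]
      rw [← hord]
      exact orderOf_dvd_natCard _
    -- the trace of `N` there
    have hjN : ∀ x, j x ∈ N → x = 1 := by
      haveI : (N.comap j).Normal := ⟨fun x hx g => by
        show j (g * x * g⁻¹) ∈ N
        rw [map_mul, map_mul, map_inv]
        exact hnormN _ (hjC g) _ hx⟩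
      have hM := psp_normal_coprime hm hp (fun hq => hchar (by
          have h2 : ((2 : ↥(fixedField σ)) : F) = 0 := by
            have h := Nat.cast_card_eq_zero ↥(fixedField σ)
            rw [hq] at h
            rw [show (2 : ↥(fixedField σ)) = 0 by exact_mod_cast h]
            rfl
          exact h2)) hdvd0 (N.comap j)
        (Nat.Coprime.coprime_dvd_left (Subgroup.card_comap_dvd_of_injective N j hjinj) hcoN)
      intro x hx
      rw [← Subgroup.mem_bot, ← hM]
      exact hx
    have hfixall : ∀ n ∈ N, (∀ (v : V) (c : F), sv σ v = v → σ c = c → n (tp v c) = tp v c) → n = 1 := by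
      intro n hn hf
      obtain ⟨τ, hτ, rfl⟩ := eq_fieldAut_of_fix σ hm n hf
      have h1 : orderOf τ ∣ p := by
        rw [← hσ]; exact orderOf_dvd_of_pow_eq_one (pow_orderOf_of_fix σ hτ)
      have h2 : orderOf (fieldAut τ : MulAut K') ∣ Nat.card ↥N := by
        rw [← Subgroup.orderOf_mk _ hn]; exact orderOf_dvd_natCard _
      rw [orderOf_injective _ (fieldAut_injective hm)] at h2
      rw [orderOf_eq_one_iff.1 (Nat.eq_one_of_dvd_coprimes hcoN h2 h1), map_one]
    -- the inner part of `N`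
    have hinnN : ∀ k : K', MulAut.conj k ∈ N → k = 1 := by
      intro k hk
      apply hinj
      rw [map_one]
      refine hfixall _ hk fun v c hv hc => ?_
      obtain ⟨s, rfl⟩ := proj_surjective k
      have hcomm : conj (spGSp s) ∈ Subgroup.centralizer {φ} := by
        rw [conj_spGSp]; exact (hNC hk).2
      obtain ⟨c', hc'⟩ := (commute_field_iff hm σ _).1 hcomm
      obtain ⟨μ, h, heq, hh⟩ := exists_fixed_of_commute (by omega) σ hc'
      have himg : MulAut.conj (proj s) (tp v c) = tp (gv h.1 v) (c * ((mult h)⁻¹ : Fˣ)) := by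
        rw [← conj_spGSp, heq, map_mul, conj_scalarG, one_mul, conj_tp]
      have hv' : sv σ (gv h.1 v) = gv h.1 v := by rw [sv_gv, hh, hv]
      have hc2 : σ (c * ((mult h)⁻¹ : Fˣ)) = c * ((mult h)⁻¹ : Fˣ) := by
        have := multHom_gspField (by omega : 1 ≤ m) σ h
        rw [hh, multHom_apply] at this
        rw [map_mul, hc, Units.val_inv_eq_inv_val, map_inv₀]
        congr 2
        exact (congrArg Units.val this).symm
      obtain ⟨a, ha⟩ := tp_mem_range σ hv hc
      obtain ⟨b, hb⟩ := tp_mem_range σ hv' hc2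
      have hcm : MulAut.conj (proj s) * j a * (MulAut.conj (proj s))⁻¹ * (j a)⁻¹ = j (b * a⁻¹) := by
        rw [map_mul j, map_inv j]
        show _ = MulAut.conj (inclPSp σ b) * (MulAut.conj (inclPSp σ a))⁻¹
        rw [hb, ← himg]
        show MulAut.conj (proj s) * MulAut.conj (inclPSp σ a) * _ * (MulAut.conj (inclPSp σ a))⁻¹ = _
        rw [mulAut_mul_conj, ha]
      have hN1 : MulAut.conj (proj s) * j a * (MulAut.conj (proj s))⁻¹ * (j a)⁻¹ ∈ N := by
        have h1 := hnormN _ (hjC a) _ (inv_mem hk)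
        have h2 := mul_mem hk h1
        simpa only [mul_assoc] using h2
      rw [hcm] at hN1
      have hba := mul_inv_eq_one.1 (hjN _ hN1)
      rw [himg, ← hb, hba, ha]
    refine (Subgroup.eq_bot_iff_forall _).2 fun n hn => hfixall n hn fun v c hv hc => ?_
    obtain ⟨a, ha⟩ := tp_mem_range σ hv hc
    set t := tp v c
    have ht : φ t = t := fieldAut_tp_fixed σ hv hc
    have h1 : n * MulAut.conj t * n⁻¹ * (MulAut.conj t)⁻¹ ∈ N := by
      have h2 := mul_mem hn (hnormN _ (hmemC t ht) _ (inv_mem hn))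
      simpa only [mul_assoc] using h2
    rw [mulAut_mul_conj, ← map_inv, ← map_mul] at h1
    exact mul_inv_eq_one.1 (hinnN _ h1)
  · -- `p` does not divide it: the fixed points give a normal `p'`-subgroup
    intro hco hbot
    let f : ↥CK →* ↥C := ((MulAut.conj).comp CK.subtype).codRestrict C fun k => hmemC _ k.2
    have hfinj : Function.Injective f := fun a b h =>
      Subtype.ext (hinj (congrArg Subtype.val h))
    have hnorm : f.range.Normal := ⟨by
      rintro _ ⟨k, rfl⟩ a
      exact ⟨⟨(a : MulAut K') (k : K'), hfixC _ a.2 _ k.2⟩, Subtype.ext (mulAut_mul_conj _ _).symm⟩⟩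
    have hle : f.range ≤ Cfsg.pPrimeCore p ↥C := le_sSup ⟨hnorm, by
      rw [← Nat.card_congr (MonoidHom.ofInjective hfinj).toEquiv]; exact hco.symm⟩
    rw [hbot] at hle
    let t : ↥CK := ⟨tp (ev ⟨0, by omega⟩) 1, fieldAut_tp_fixed σ (sv_ev σ _) (map_one σ)⟩
    have h1 : f t = 1 := Subgroup.mem_bot.1 (hle ⟨t, rfl⟩)
    exact tp_ne_one hm (LinGroup.isoVec_ne_zero _) one_ne_zero
      (congrArg Subtype.val (hfinj (h1.trans (map_one f).symm)))

/-- The reduction to the standard field automorphism, and the statement. -/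
theorem local_balance_field [Fintype F] {r : ℕ} [Fact r.Prime] [CharP F r] (hm : 2 ≤ m)
    (hs : m = 2 → 3 ≤ Fintype.card F) (hK : IsSimpleGroup K') (A : Subgroup (MulAut K'))
    (hinn : ∀ k : K', MulAut.conj k ∈ A) {p : ℕ} [Fact p.Prime] (hpr : p ≠ r) (x : MulAut K')
    (hord : orderOf x = p) (hnot : ¬ Cfsg.IsInnerDiagonalAutPSp x) :
    Cfsg.pPrimeCore p ↥(A ⊓ Subgroup.centralizer {x}) ≠ ⊥ ↔
      (Cfsg.IsFieldAutClassPSp x ∧
        Nat.Coprime p (Nat.card ↥(MonoidHom.eqLocus x.toMonoidHom (MonoidHom.id K')))) := by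
  have hp : p.Prime := Fact.out
  have hchar : (2 : F) = 0 → p ≠ 2 := fun h2 hp2 => hpr (by
    have hr : r = 2 := (Nat.prime_dvd_prime_iff_eq Fact.out Nat.prime_two).1
      ((CharP.cast_eq_zero_iff F r 2).1 (by exact_mod_cast h2))
    rw [hp2, hr])
  obtain ⟨g, σ, hx⟩ := mem_semiSub_of_odd hm hs x fun h => by
    rw [hord]; exact hp.odd_of_ne_two (hchar h.2)
  have hσp : σ ^ p = 1 := by
    have h1 := conj_mul_fieldAut_pow g σ p
    rw [← hx, ← hord, pow_orderOf_eq_one, hord] at h1
    exact (exists_scalarG_of_conj_eq hm h1.symm).1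
  have hσ1 : σ ≠ 1 := fun h => hnot ((isInnerDiagonal_iff x).2 ⟨g, by rw [hx, h, map_one, mul_one]⟩)
  have hσ : orderOf σ = p := orderOf_eq_prime hσp hσ1
  obtain ⟨k, hk⟩ := field_order_imp_conj hm σ g (by rw [hσ, ← hx, ← hord, pow_orderOf_eq_one])
  rw [← hx] at hk
  have hfield : Cfsg.IsFieldAutClassPSp x := ⟨(conj k)⁻¹, σ, hσ1, (isStdFieldAut_iff σ _).2 (by
    rw [hk]; group)⟩
  rw [and_iff_right hfield]
  set c : MulAut K' := conj k with hc
  let e : MulAut (MulAut K') := MulAut.conj c
  set A' := A.comap e.toMonoidHom with hA'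
  have hinn' : ∀ y : K', MulAut.conj y ∈ A' := fun y => by
    show c * MulAut.conj y * c⁻¹ ∈ A
    rw [mulAut_mul_conj]; exact hinn _
  have hCeq : (A ⊓ Subgroup.centralizer {x}).comap e.toMonoidHom
      = A' ⊓ Subgroup.centralizer {(fieldAut σ : MulAut K')} := by
    ext a
    rw [Subgroup.mem_comap, Subgroup.mem_inf, Subgroup.mem_inf, Subgroup.mem_centralizer_singleton_iff,
      Subgroup.mem_centralizer_singleton_iff]
    refine and_congr Iff.rfl ?_
    rw [show x = e (fieldAut σ) from hk]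
    show e a * e (fieldAut σ) = e (fieldAut σ) * e a ↔ _
    rw [← map_mul, ← map_mul, e.injective.eq_iff]
  have key := core_fieldAut_iff hm hK hp σ hσ hchar A' hinn'
  rw [← hCeq] at key
  have hcore : Cfsg.pPrimeCore p ↥((A ⊓ Subgroup.centralizer {x}).comap e.toMonoidHom) = ⊥ ↔
      Cfsg.pPrimeCore p ↥(A ⊓ Subgroup.centralizer {x}) = ⊥ :=
    pPrimeCore_eq_bot_congr (comapSubgroup' e (A ⊓ Subgroup.centralizer {x})) p
  rw [ne_eq, hcore] at key
  rw [ne_eq, key]
  have hcard : Nat.card ↥(MonoidHom.eqLocus (fieldAut σ : MulAut K').toMonoidHom (MonoidHom.id K'))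
      = Nat.card ↥(MonoidHom.eqLocus x.toMonoidHom (MonoidHom.id K')) := by
    refine Nat.card_congr (Equiv.subtypeEquiv c.toEquiv fun y => ?_)
    show fieldAut σ y = y ↔ x (c y) = c y
    rw [hk]
    show _ ↔ c (fieldAut σ (c.symm (c y))) = c y
    rw [MulEquiv.symm_apply_apply, c.injective.eq_iff]
  rw [hcard]
where
  comapSubgroup' {G : Type _} [Group G] (e : G ≃* G) (H : Subgroup G) : ↥(H.comap e.toMonoidHom) ≃* ↥H :=
    { toFun := fun a => ⟨e a, a.2⟩
      invFun := fun b => ⟨e.symm b, by show e (e.symm b) ∈ H; rw [e.apply_symm_apply]; exact b.2⟩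
      left_inv := fun a => Subtype.ext (e.symm_apply_apply _)
      right_inv := fun b => Subtype.ext (e.apply_symm_apply _)
      map_mul' := fun a b => Subtype.ext (map_mul e _ _) }
  pPrimeCore_eq_bot_congr {G H : Type _} [Group G] [Group H] (e : G ≃* H) (p : ℕ) :
      Cfsg.pPrimeCore p G = ⊥ ↔ Cfsg.pPrimeCore p H = ⊥ := by
    have key : ∀ {G H : Type _} [Group G] [Group H] (e : G ≃* H),
        Cfsg.pPrimeCore p G = ⊥ → Cfsg.pPrimeCore p H = ⊥ := by
      intro G H _ _ e hG
      refine eq_bot_iff.2 (sSup_le ?_)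
      rintro N ⟨hN, hco⟩
      have h1 : N.map e.symm.toMonoidHom ≤ Cfsg.pPrimeCore p G :=
        le_sSup ⟨hN.map _ e.symm.surjective, by
          rwa [Subgroup.card_map_of_injective e.symm.injective]⟩
      rw [hG, le_bot_iff, Subgroup.map_eq_bot_iff_of_injective _ e.symm.injective] at h1
      exact h1.le
    exact ⟨key e, key e.symm⟩

end Cfsg.Agent.Lib.PSpAut
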