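import Cfsg.Agent.Lib.PSpAut.Decomp
import Cfsg.Agent.Lib.PSLAut.Kernel

/-!
# The order of `Aut(PSp_{2m}(F))`
-/

set_option autoImplicit false

namespace Cfsg.Agent.Lib.PSpAut

open Matrix

variable {F : Type*} [Field F] [Fintype F] {m : ℕ}

local notation "GS" => (GSpT m F)

theorem natCard_conj_range (hm : 2 ≤ m) :
    Nat.card ↥((conj : GS →* MulAut (Cfsg.PSp m F)).range)
      = Nat.gcd 2 (Fintype.card F - 1) * Nat.card (Cfsg.PSp m F) := by
  have hm1 : 1 ≤ m := by omega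
  have hS : Nat.card (Matrix.symplecticGroup (Fin m) F)
      = Nat.card (multHom (F := F) hm1).ker := by
    refine Nat.card_congr (Equiv.ofBijective
      (fun s => (⟨spGSp s, multHom_spGSp hm1 s⟩ : (multHom (F := F) hm1).ker)) ⟨?_, ?_⟩)
    · intro s t h; exact spGSp_injective (congrArg Subtype.val h)
    · intro g
      obtain ⟨s, hs⟩ := exists_spGSp_of_mult hm1 g.2
      exact ⟨s, Subtype.ext hs⟩
  have hG : Nat.card GS = Nat.card (Matrix.symplecticGroup (Fin m) F) * Nat.card Fˣ := by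
    rw [hS, ← Subgroup.card_mul_index (multHom (F := F) hm1).ker, Subgroup.index_ker,
      MonoidHom.range_eq_top.mpr (multHom_surjective hm1), Subgroup.card_top]
  have hK : Nat.card (conj : GS →* MulAut (Cfsg.PSp m F)).ker = Nat.card Fˣ := by
    refine (Nat.card_congr (Equiv.ofBijective
      (fun c : Fˣ => (⟨scalarG m c, conj_scalarG c⟩ : (conj : GS →* MulAut (Cfsg.PSp m F)).ker)) ⟨?_, ?_⟩)).symm
    · intro c d h
      have := congrArg (fun g : (conj : GS →* MulAut (Cfsg.PSp m F)).ker =>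
        (g.1.1 : Matrix (Fin m ⊕ Fin m) (Fin m ⊕ Fin m) F) (.inl ⟨0, hm1⟩) (.inl ⟨0, hm1⟩)) h
      ext
      simpa [scalarG, GeneralLinearGroup.coe_scalar] using this
    · intro g
      obtain ⟨c, hc⟩ := (conj_eq_one_iff' hm).1 g.2
      exact ⟨c, Subtype.ext hc.symm⟩
  have h1 := (conj : GS →* MulAut (Cfsg.PSp m F)).ker.card_mul_index
  rw [Subgroup.index_ker, hK, hG, mul_comm (Nat.card (Matrix.symplecticGroup (Fin m) F))] at h1
  rw [Nat.eq_of_mul_eq_mul_left Nat.card_pos h1,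
    Subgroup.card_eq_card_quotient_mul_card_subgroup (Subgroup.center (Matrix.symplecticGroup (Fin m) F)),
    Classical.natCard_center_symplecticGroup m hm1, mul_comm]

theorem natCard_mulAut_psp {p f : ℕ} [Fact p.Prime] (hF : Fintype.card F = p ^ f) (hm : 2 ≤ m)
    (h22 : m = 2 → 3 ≤ p ^ f) :
    Nat.card (MulAut (Cfsg.PSp m F))
      = (if m = 2 ∧ p = 2 then 2 else 1) * Nat.gcd 2 (p ^ f - 1) * f * Nat.card (Cfsg.PSp m F) := by
  classical
  haveI : CharP F p := charP_of_card_eq_prime_pow hF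
  let Φ : ↥((conj : GS →* MulAut (Cfsg.PSp m F)).range) × (F ≃+* F) → MulAut (Cfsg.PSp m F) :=
    fun x => x.1.1 * fieldAut x.2
  have hΦ : Function.Injective Φ := by
    rintro ⟨⟨_, g, rfl⟩, σ⟩ ⟨⟨_, h, rfl⟩, τ⟩ e
    obtain ⟨h1, h2⟩ := conj_fieldAut_inj hm e
    exact Prod.ext (Subtype.ext h1) h2
  have hbase : Nat.card (↥((conj : GS →* MulAut (Cfsg.PSp m F)).range) × (F ≃+* F))
      = Nat.gcd 2 (p ^ f - 1) * f * Nat.card (Cfsg.PSp m F) := by
    rw [Nat.card_prod, natCard_conj_range hm, PSLAut.card_ringEquiv hF, hF]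
    ring
  by_cases h24 : m = 2 ∧ p = 2
  · obtain ⟨rfl, rfl⟩ := h24
    have h2 : (2 : F) = 0 := by exact_mod_cast CharP.cast_eq_zero F 2
    have hq : 3 ≤ Fintype.card F := hF ▸ h22 rfl
    let τ := graphAut4 h2 hq
    have hb : Function.Bijective (fun z : Bool × (↥((conj : GSpT 2 F →* MulAut (Cfsg.PSp 2 F)).range) × (F ≃+* F)) =>
        (if z.1 then τ else 1) * Φ z.2) := by
      refine ⟨?_, fun α => ?_⟩
      · have hne : ∀ x y, τ * Φ x ≠ Φ y := by
          rintro ⟨⟨_, g, rfl⟩, σ⟩ ⟨⟨_, h, rfl⟩, σ'⟩ e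
          have hmem : ∀ (k : GSpT 2 F) (ρ : F ≃+* F) (z : Cfsg.PSp 2 F), z ∈ tvSet 2 F →
              (conj k * fieldAut ρ : MulAut (Cfsg.PSp 2 F)) z ∈ tvSet 2 F := by
            rintro k ρ _ ⟨v, hv, c, hc, rfl⟩
            rw [MulAut.mul_apply, fieldAut_tp, conj_tp]
            exact tp_mem_tvSet (gv_ne_zero _ (sv_ne_zero ρ hv)) (mul_ne_zero (by simpa using hc) (Units.ne_zero _))
          let A : tvSet 2 F → tvSet 2 F := fun z => ⟨(conj g * fieldAut σ : MulAut (Cfsg.PSp 2 F)) z, hmem g σ z z.2⟩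
          have hA : Function.Injective A := fun a b hab =>
            Subtype.ext ((conj g * fieldAut σ : MulAut (Cfsg.PSp 2 F)).injective (congrArg Subtype.val hab))
          obtain ⟨z, hz⟩ := Finite.injective_iff_surjective.1 hA
            ⟨tp (ev 0) 1, tp_mem_tvSet (LinGroup.isoVec_ne_zero 0) one_ne_zero⟩
          refine shortElt_notMem_tvSet h2 ?_
          have : shortElt F = (conj h * fieldAut σ' : MulAut (Cfsg.PSp 2 F)) (z : Cfsg.PSp 2 F) := by
            have e' := DFunLike.congr_fun e (z : Cfsg.PSp 2 F)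
            have hz' : (conj g * fieldAut σ : MulAut (Cfsg.PSp 2 F)) (z : Cfsg.PSp 2 F) = tp (ev 0) 1 := congrArg Subtype.val hz
            calc shortElt F = τ (tp (ev 0) 1) := (graphAut4_long h2 hq).symm
              _ = τ ((conj g * fieldAut σ : MulAut (Cfsg.PSp 2 F)) (z : Cfsg.PSp 2 F)) := by rw [hz']
              _ = _ := e'
          rw [this]
          exact hmem h σ' _ z.2
        rintro ⟨b, x⟩ ⟨b', y⟩ e
        cases b <;> cases b' <;> simp only [Bool.false_eq_true, if_false, if_true, one_mul] at e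
        · rw [hΦ e]
        · exact absurd e.symm (hne y x)
        · exact absurd e (hne x y)
        · rw [hΦ (mul_left_cancel e)]
      · obtain ⟨ε, g, σ, hε, hα⟩ := exists_eq_graph_mul h2 hq α
        rcases hε with rfl | rfl
        · exact ⟨⟨false, ⟨_, g, rfl⟩, σ⟩, by simp [Φ, hα]⟩
        · exact ⟨⟨true, ⟨_, g, rfl⟩, σ⟩, by simp [Φ, hα, τ]⟩
    rw [← Nat.card_congr (Equiv.ofBijective _ hb), Nat.card_prod, hbase, if_pos ⟨rfl, rfl⟩,
      Nat.card_eq_fintype_card (α := Bool), Fintype.card_bool]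
    ring
  · rw [if_neg h24, one_mul, ← hbase]
    refine (Nat.card_congr (Equiv.ofBijective Φ ⟨hΦ, fun α => ?_⟩)).symm
    obtain ⟨g, σ, hα⟩ := exists_eq_conj_mul_fieldAut (p := p) hm (fun a b => h24 ⟨a, b⟩) α
    exact ⟨⟨⟨_, g, rfl⟩, σ⟩, hα.symm⟩

end Cfsg.Agent.Lib.PSpAut
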