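import Cfsg.Agent.Lib.PSpAut.Decomp
import Cfsg.Agent.Lib.PSLAut.FieldClass

/-!
# Field automorphisms of `PSp_{2m}(F)`: conjugacy in a coset, centralisers, splitting
-/

set_option autoImplicit false

namespace Cfsg.Agent.Lib.PSpAut

open Matrix FieldDescent

variable {F : Type*} [Field F] [Fintype F] {m : ℕ}

local notation "Sp" => (Matrix.symplecticGroup (Fin m) F)
local notation "GS" => (GSpT m F)
local notation "GL'" => (GL (Fin m ⊕ Fin m) F)
local notation "J₀" => (Matrix.J (Fin m) F)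

/-- The image of `GSp` in the automorphism group. -/
noncomputable abbrev gsRange (m : ℕ) (F : Type*) [Field F] : Subgroup (MulAut (Cfsg.PSp m F)) :=
  (conj : GSpT m F →* MulAut (Cfsg.PSp m F)).range

theorem map_formOp {K L : Type*} [Field K] [Field L] (f : K →+* L) {ι : Type} [Fintype ι] [DecidableEq ι]
    (h : GL ι K) (A : Matrix ι ι K) :
    (PSLAut.formOp h A).map f = PSLAut.formOp (GeneralLinearGroup.map f h) (A.map f) := by
  show ((h : Matrix ι ι K)ᵀ * A * (h : Matrix ι ι K)).map f = _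
  rw [Matrix.map_mul, Matrix.map_mul, Matrix.transpose_map]
  rfl

theorem map_J {K L : Type*} [Field K] [Field L] (f : K →+* L) :
    (Matrix.J (Fin m) K).map f = Matrix.J (Fin m) L := by
  ext i j
  rcases i with i | i <;> rcases j with j | j <;> simp [Matrix.J, Matrix.one_apply, apply_ite f]

theorem mem_GSp_iff_formOp {K : Type*} [Field K] (h : GL (Fin m ⊕ Fin m) K) :
    h ∈ Cfsg.GSp m K ↔ ∃ c : Kˣ, PSLAut.formOp h (Matrix.J (Fin m) K) = (c : K) • Matrix.J (Fin m) K := by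
  rw [PSLAut.GSp_eq_matSimil]; exact PSLAut.mem_matSimil

theorem formOp_gsp (hm : 1 ≤ m) (g : GS) :
    PSLAut.formOp g.1 J₀ = ((multHom hm g : Fˣ) : F) • J₀ := by
  obtain ⟨c, hc⟩ := (mem_GSp_iff_formOp g.1).1 g.2
  rw [hc, multHom_apply, mult_eq_of_formOp hm g c hc]

theorem multHom_gspField (hm : 1 ≤ m) (σ : F ≃+* F) (g : GS) :
    multHom hm (gspField σ g) = Units.map σ.toRingHom.toMonoidHom (multHom hm g) := by
  refine mult_eq_of_formOp hm _ _ ?_
  have h := congrArg (fun M : Matrix (Fin m ⊕ Fin m) (Fin m ⊕ Fin m) F => M.map σ.toRingHom) (formOp_gsp hm g)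
  rw [map_formOp, map_J, Matrix.map_smul' σ.toRingHom _ _ (map_mul σ.toRingHom), map_J] at h
  exact h

/-- A field automorphism is conjugate under `Inndiag` to a standard one. -/
theorem exists_conj_form (hm : 2 ≤ m) (hs : m = 2 → 3 ≤ Fintype.card F) {x : MulAut (Cfsg.PSp m F)}
    (hx : Cfsg.IsFieldAutClassPSp x) :
    ∃ (σ : F ≃+* F) (k : GS), σ ≠ RingEquiv.refl F ∧ x = conj k * fieldAut σ * (conj k)⁻¹ := by
  obtain ⟨α, σ, hσ, hstd⟩ := hx
  rw [isStdFieldAut_iff] at hstd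
  obtain ⟨ε, g, τ, hα, hε1, hε2⟩ := exists_decomp hm hs α⁻¹
  obtain ⟨k, hk⟩ := hε2 g
  refine ⟨σ, k, hσ, ?_⟩
  have hτσ : (fieldAut τ : MulAut (Cfsg.PSp m F)) * fieldAut σ = fieldAut σ * fieldAut τ := by
    rw [← map_mul, ← map_mul]
    congr 1
    obtain ⟨p, hp⟩ := CharP.exists F
    haveI := hp
    haveI : Fact p.Prime := ⟨CharP.char_is_prime F p⟩
    letI : Algebra (ZMod p) F := ZMod.algebra F p
    have hlin : ∀ ρ : F ≃+* F, ∃ ρ' : F ≃ₐ[ZMod p] F, ∀ y, ρ' y = ρ y := fun ρ =>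
      ⟨AlgEquiv.ofRingEquiv (f := ρ) fun y => by
        exact congrFun (congrArg DFunLike.coe (RingHom.ext_zmod (ρ.toRingHom.comp (algebraMap (ZMod p) F))
          (algebraMap (ZMod p) F))) y, fun y => rfl⟩
    obtain ⟨τ', hτ'⟩ := hlin τ
    obtain ⟨σ', hσ'⟩ := hlin σ
    refine RingEquiv.ext fun y => ?_
    show τ (σ y) = σ (τ y)
    rw [← hτ', ← hσ', ← hσ', ← hτ']
    exact DFunLike.congr_fun (mul_comm' τ' σ') y
  calc x = α⁻¹ * fieldAut σ * (α⁻¹)⁻¹ := by rw [← hstd]; group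
    _ = ε * conj g * (fieldAut τ * fieldAut σ * (fieldAut τ)⁻¹) * (conj g)⁻¹ * ε⁻¹ := by rw [hα]; group
    _ = ε * conj g * fieldAut σ * (conj g)⁻¹ * ε⁻¹ := by rw [hτσ]; group
    _ = (ε * conj g * ε⁻¹) * (ε * fieldAut σ * ε⁻¹) * (ε * conj g * ε⁻¹)⁻¹ := by group
    _ = conj k * fieldAut σ * (conj k)⁻¹ := by rw [hk, hε1, mul_inv_cancel_right]
where
  mul_comm' {K L : Type _} [Field K] [Field L] [Algebra K L] [Finite L] (a b : L ≃ₐ[K] L) :
      a * b = b * a := by
    haveI : Finite K := Finite.of_injective _ (algebraMap K L).injective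
    obtain ⟨g, hg⟩ := IsCyclic.exists_generator (α := L ≃ₐ[K] L)
    obtain ⟨i, rfl⟩ := Subgroup.mem_zpowers_iff.1 (hg a)
    obtain ⟨j, rfl⟩ := Subgroup.mem_zpowers_iff.1 (hg b)
    exact (Commute.zpow_zpow (Commute.refl g) i j).eq

theorem orderOf_conj_form (hm : 2 ≤ m) (σ : F ≃+* F) (k : GS) :
    orderOf (conj k * fieldAut σ * (conj k)⁻¹ : MulAut (Cfsg.PSp m F)) = orderOf σ := by
  rw [show (conj k * fieldAut σ * (conj k)⁻¹ : MulAut (Cfsg.PSp m F))
    = MulAut.conj (conj k) (fieldAut σ) from rfl, MulEquiv.orderOf_eq,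
    orderOf_injective _ (fieldAut_injective hm)]

/-! ### Hilbert 90 -/

theorem coe_iterProd_mem (σ : F ≃+* F) (g : GS) : ∀ k, iterProd σ g.1 k ∈ Cfsg.GSp m F
  | 0 => one_mem _
  | k + 1 => mul_mem g.2 (gspField σ ⟨_, coe_iterProd_mem σ g k⟩).2

theorem conj_mul_fieldAut_pow (g : GS) (σ : F ≃+* F) : ∀ k : ℕ,
    (conj g * fieldAut σ : MulAut (Cfsg.PSp m F)) ^ k
      = conj ⟨_, coe_iterProd_mem σ g k⟩ * fieldAut (σ ^ k)
  | 0 => by
    rw [pow_zero, pow_zero, map_one, mul_one]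
    exact (map_one (conj : GSpT m F →* _)).symm
  | k + 1 => by
    rw [pow_succ', conj_mul_fieldAut_pow g σ k, mul_assoc, ← mul_assoc (fieldAut σ),
      fieldAut_mul_conj, pow_succ' σ k, map_mul fieldAut, mul_assoc (conj (gspField σ _)),
      ← mul_assoc (conj g), ← map_mul]
    rfl

theorem multHom_iterProd (hm : 1 ≤ m) (σ : F ≃+* F) (g : GS) : ∀ k,
    multHom hm ⟨_, coe_iterProd_mem σ g k⟩ = normProd σ k (multHom hm g)
  | 0 => by
    rw [show (⟨_, coe_iterProd_mem σ g 0⟩ : GS) = 1 from rfl, map_one]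
    simp [normProd]
  | k + 1 => by
    rw [show (⟨_, coe_iterProd_mem σ g (k + 1)⟩ : GS) = g * gspField σ ⟨_, coe_iterProd_mem σ g k⟩ from rfl,
      map_mul, multHom_gspField, multHom_iterProd hm σ g k]
    ext
    rw [Units.val_mul, apply_normProd_succ]
    rfl

theorem fintype_card_sum_eq {b : ℕ} (e : Fin b ⊕ Fin b ≃ Fin m ⊕ Fin m) : b = m := by
  have := Fintype.card_congr e
  simp at this
  omega

theorem exists_formOp_to_J {K : Type*} [Field K] {M : Matrix (Fin m ⊕ Fin m) (Fin m ⊕ Fin m) K}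
    (hM : Mᵀ = -M) (hdiag : ∀ i, M i i = 0) (hd : M.det ≠ 0) :
    ∃ h : GL (Fin m ⊕ Fin m) K, PSLAut.formOp h M = Matrix.J (Fin m) K := by
  obtain ⟨b, e, h, hh⟩ := PSLAut.exists_formOp_J hM hdiag hd
  obtain rfl := fintype_card_sum_eq e
  let k : GL (Fin b ⊕ Fin b) K :=
    (Forms.glEquiv (Fin b ⊕ Fin b) K).symm (LinearEquiv.funCongrLeft K K e.symm)
  refine ⟨h * k, ?_⟩
  rw [PSLAut.formOp_mul, hh]
  refine PSLAut.matrix_ext_form fun u v => ?_
  rw [PSLAut.dot_formOp, Forms.glEquiv_symm_mulVec, Forms.glEquiv_symm_mulVec]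
  show (u ∘ e.symm) ⬝ᵥ ((Matrix.J (Fin b) K).submatrix e.symm e.symm *ᵥ (v ∘ e.symm)) = _
  rw [Matrix.submatrix_mulVec_equiv, dotProduct, dotProduct, ← Equiv.sum_comp e]
  simp [Function.comp_def]

theorem dot_J_self {K : Type*} [Field K] (v : Fin m ⊕ Fin m → K) : v ⬝ᵥ (Matrix.J (Fin m) K *ᵥ v) = 0 :=
  Forms.sympForm_self v

/-- Hilbert 90 for the conformal symplectic group, modulo scalars. -/
theorem field_order_imp_conj (hm : 2 ≤ m) (σ : F ≃+* F) (g : GS)
    (h : (conj g * fieldAut σ : MulAut (Cfsg.PSp m F)) ^ orderOf σ = 1) :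
    ∃ k : GS, (conj g * fieldAut σ : MulAut (Cfsg.PSp m F)) = conj k * fieldAut σ * (conj k)⁻¹ := by
  have hm1 : 1 ≤ m := by omega
  rw [conj_mul_fieldAut_pow] at h
  rw [pow_orderOf_eq_one, map_one, mul_one, conj_eq_one_iff' hm] at h
  obtain ⟨c, hc⟩ := h
  have hc1 : iterProd σ g.1 (orderOf σ) = GeneralLinearGroup.scalar (Fin m ⊕ Fin m) c :=
    congrArg Subtype.val hc
  have hfix : c ∈ fixedUnits σ := by
    have h2 := map_iterProd σ g.1 (pow_orderOf_eq_one σ)
    rw [hc1, GeneralLinearGroup.scalar_commute] at h2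
    have h3 := mul_left_cancel h2
    rw [GeneralLinearGroup.map_scalar] at h3
    have h4 := congrArg (fun u : GL' =>
      (u : Matrix (Fin m ⊕ Fin m) (Fin m ⊕ Fin m) F) (.inl ⟨0, by omega⟩) (.inl ⟨0, by omega⟩)) h3
    rw [mem_fixedUnits]
    simpa [GeneralLinearGroup.coe_scalar] using h4
  obtain ⟨μ, hμ⟩ := exists_normProd_eq σ (inv_mem hfix)
  set g' : GS := scalarG m μ * g with hg'
  have hN : iterProd σ g'.1 (orderOf σ) = 1 := by
    show iterProd σ (GeneralLinearGroup.scalar (Fin m ⊕ Fin m) μ * g.1) (orderOf σ) = 1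
    rw [iterProd_smul, hc1, hμ, ← map_mul, inv_mul_cancel, map_one]
  obtain ⟨t, ht⟩ := exists_eq_mul_map_inv σ g'.1 hN
  -- the multiplier of `g'` has norm one
  have hN1 : normProd σ (orderOf σ) (multHom hm1 g') = 1 := by
    rw [← multHom_iterProd hm1, show (⟨_, coe_iterProd_mem σ g' (orderOf σ)⟩ : GS) = 1 from Subtype.ext hN,
      map_one]
  obtain ⟨ν, hν⟩ := exists_of_normProd_eq_one σ hN1
  set M := PSLAut.formOp t J₀ with hM
  have hgt : g'.1 * GeneralLinearGroup.map σ.toRingHom t = t := by rw [ht, inv_mul_cancel_right]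
  have hMσ : M = ((multHom hm1 g' : Fˣ) : F) • M.map σ.toRingHom := by
    rw [hM]
    conv_lhs => rw [← hgt]
    rw [PSLAut.formOp_mul, formOp_gsp hm1, PSLAut.formOp_smul, map_formOp, map_J]
  set M' := ((ν⁻¹ : Fˣ) : F) • M with hM'
  have hfixM : ∀ i j, σ (M' i j) = M' i j := fun i j => by
    have h1 : M i j = ((ν : F) / σ ν) * σ (M i j) := by
      conv_lhs => rw [hMσ]
      rw [hν, Units.val_div_eq_div_val]
      rfl
    have hν0 : σ (ν : F) ≠ 0 := fun e => ν.ne_zero (σ.injective (e.trans σ.map_zero.symm))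
    show σ (((ν⁻¹ : Fˣ) : F) * M i j) = ((ν⁻¹ : Fˣ) : F) * M i j
    rw [map_mul, Units.val_inv_eq_inv_val, map_inv₀]
    field_simp at h1 ⊢
    linear_combination -h1
  let F₁ := fixedField σ
  let M₀ : Matrix (Fin m ⊕ Fin m) (Fin m ⊕ Fin m) ↥F₁ := Matrix.of fun i j => ⟨M' i j, hfixM i j⟩
  have hM₀ : M₀.map (F₁.subtype) = M' := by ext i j; rfl
  have hMT : Mᵀ = -M := by
    rw [hM, PSLAut.formOp, Matrix.transpose_mul, Matrix.transpose_mul, Matrix.transpose_transpose,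
      Matrix.J_transpose, Matrix.neg_mul, Matrix.mul_neg, Matrix.mul_assoc]
  have hdiag : ∀ i, M i i = 0 := fun i => by
    have := PSLAut.dot_formOp t J₀ (Pi.single i 1) (Pi.single i 1)
    rw [dot_J_self, ← hM] at this
    simpa using this
  have hMd : M.det ≠ 0 := by
    rw [hM, PSLAut.formOp, Matrix.det_mul, Matrix.det_mul, Matrix.det_transpose]
    exact mul_ne_zero (mul_ne_zero (GeneralLinearGroup.det_ne_zero t)
      (Matrix.isUnit_det_J (Fin m) F).ne_zero) (GeneralLinearGroup.det_ne_zero t)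
  obtain ⟨k₀, hk₀⟩ := exists_formOp_to_J (M := M₀)
    (by
      ext i j
      have := congrFun (congrFun hMT i) j
      show M' j i = -M' i j
      simp only [hM', Matrix.smul_apply, smul_eq_mul, Matrix.transpose_apply, Matrix.neg_apply] at this ⊢
      rw [this, mul_neg])
    (fun i => Subtype.ext (by show M' i i = 0; simp [hM', hdiag]))
    (fun h0 => by
      have h1 : F₁.subtype M₀.det = M'.det := by
        rw [RingHom.map_det]; exact congrArg Matrix.det hM₀
      rw [h0, map_zero, hM', Matrix.det_smul] at h1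
      rcases mul_eq_zero.1 h1.symm with h2 | h2
      · exact pow_ne_zero _ (Units.ne_zero _) h2
      · exact hMd h2)
  set k₁ : GL' := t * GeneralLinearGroup.map F₁.subtype k₀ with hk₁
  have hk₁mem : k₁ ∈ Cfsg.GSp m F := by
    rw [mem_GSp_iff_formOp]
    refine ⟨ν, ?_⟩
    have h1 := congrArg (fun A : Matrix (Fin m ⊕ Fin m) (Fin m ⊕ Fin m) ↥F₁ => A.map F₁.subtype) hk₀
    rw [map_formOp, map_J, hM₀, hM', PSLAut.formOp_smul] at h1
    rw [hk₁, PSLAut.formOp_mul, ← hM, ← h1, smul_smul, ← Units.val_mul, mul_inv_cancel, Units.val_one,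
      one_smul]
  refine ⟨⟨k₁, hk₁mem⟩, ?_⟩
  have hk₁σ : g'.1 * GeneralLinearGroup.map σ.toRingHom k₁ = k₁ := by
    rw [hk₁, map_mul, ← mul_assoc, hgt]
    congr 1
    ext i j
    exact ((k₀ : Matrix (Fin m ⊕ Fin m) (Fin m ⊕ Fin m) ↥F₁) i j).2
  have he : g' = (⟨k₁, hk₁mem⟩ : GS) * (gspField σ ⟨k₁, hk₁mem⟩)⁻¹ := Subtype.ext (by
    show g'.1 = k₁ * (GeneralLinearGroup.map σ.toRingHom k₁)⁻¹
    rw [eq_mul_inv_iff_mul_eq]; exact hk₁σ)
  have hgg : (conj g : MulAut (Cfsg.PSp m F)) = conj g' := by rw [hg', map_mul, conj_scalarG, one_mul]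
  rw [hgg, he, map_mul, map_inv, mul_assoc (conj _), mul_assoc (conj _)]
  congr 1
  rw [inv_mul_eq_iff_eq_mul, ← mul_assoc, ← fieldAut_mul_conj, mul_inv_cancel_right]

/-! ### The centraliser -/

theorem commute_field_iff (hm : 2 ≤ m) (σ : F ≃+* F) (g : GS) :
    conj g ∈ Subgroup.centralizer {(fieldAut σ : MulAut (Cfsg.PSp m F))}
      ↔ ∃ c : Fˣ, gspField σ g = scalarG m c * g := by
  rw [Subgroup.mem_centralizer_singleton_iff, fieldAut_mul_conj, mul_left_inj, eq_comm, conj_eq_conj_iff hm]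

theorem exists_fixed_of_commute (hm : 1 ≤ m) (σ : F ≃+* F) {g : GS} {c : Fˣ}
    (hg : gspField σ g = scalarG m c * g) :
    ∃ (μ : Fˣ) (h : GS), g = scalarG m μ * h ∧ gspField σ h = h := by
  have hne : ∃ i, (g.1 : Matrix (Fin m ⊕ Fin m) (Fin m ⊕ Fin m) F) i (.inl ⟨0, hm⟩) ≠ 0 := by
    by_contra hno
    push Not at hno
    exact GeneralLinearGroup.det_ne_zero g.1 (Matrix.det_eq_zero_of_column_eq_zero _ hno)
  obtain ⟨i, hi⟩ := hne
  set μ := Units.mk0 _ hi
  have hμ : Units.map σ.toRingHom.toMonoidHom μ = c * μ := by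
    have := congrArg (fun u : GS =>
      (u.1 : Matrix (Fin m ⊕ Fin m) (Fin m ⊕ Fin m) F) i (.inl ⟨0, hm⟩)) hg
    ext
    simpa [μ, scalarG, coe_gspField, GeneralLinearGroup.coe_scalar, Matrix.diagonal_mul] using! this
  refine ⟨μ, (scalarG m μ)⁻¹ * g, (mul_inv_cancel_left _ _).symm, ?_⟩
  have hc : gspField σ ((scalarG m μ : GS)⁻¹) = (scalarG m (c * μ))⁻¹ := by
    rw [map_inv]
    congr 1
    refine Subtype.ext ?_
    rw [coe_gspField, coe_scalarG, coe_scalarG, GeneralLinearGroup.map_scalar, ← hμ]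
    rfl
  have hmul : (scalarG m (c * μ) : GS) = scalarG m c * scalarG m μ :=
    Subtype.ext (map_mul (GeneralLinearGroup.scalar (Fin m ⊕ Fin m)) c μ)
  have hcomm : (scalarG m c : GS) * scalarG m μ = scalarG m μ * scalarG m c :=
    Subtype.ext ((map_mul (GeneralLinearGroup.scalar (Fin m ⊕ Fin m)) c μ).symm.trans
      ((congrArg (GeneralLinearGroup.scalar (Fin m ⊕ Fin m)) (mul_comm c μ)).trans (map_mul _ μ c)))
  rw [map_mul, hc, hg, hmul, _root_.mul_inv_rev]
  group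

theorem map_mem_GSp {K : Type*} [Field K] (f : K →+* F) {g : GL (Fin m ⊕ Fin m) K}
    (hg : g ∈ Cfsg.GSp m K) : GeneralLinearGroup.map f g ∈ Cfsg.GSp m F := by
  obtain ⟨c, hc⟩ := (mem_GSp_iff_formOp g).1 hg
  refine (mem_GSp_iff_formOp _).2 ⟨Units.map f.toMonoidHom c, ?_⟩
  have := congrArg (fun A : Matrix (Fin m ⊕ Fin m) (Fin m ⊕ Fin m) K => A.map f) hc
  rw [map_formOp, map_J, Matrix.map_smul' f _ _ (map_mul f), map_J] at this
  exact this

/-- `PGSp` over the fixed field is the centraliser of the standard field automorphism. -/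
noncomputable def fieldCentEquiv (hm : 2 ≤ m) (σ : F ≃+* F) (F₀ : Type*) [Field F₀] [Fintype F₀]
    (hF₀ : Fintype.card F₀ = Nat.card ↥(fixedField σ)) :
    Cfsg.PGSp m F₀ ≃*
      ↥(Cfsg.inndiagPSp m F ⊓ Subgroup.centralizer {(fieldAut σ : MulAut (Cfsg.PSp m F))}) :=
  haveI : Fintype ↥(fixedField σ) := Fintype.ofFinite _
  let e : F₀ ≃+* ↥(fixedField σ) := FiniteField.ringEquivOfCardEq
    (by rw [hF₀, Nat.card_eq_fintype_card])
  let ι : F₀ →+* F := (fixedField σ).subtype.comp e.toRingHom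
  let f₀ : ↥(Cfsg.GSp m F₀) →* GS :=
    ((GeneralLinearGroup.map ι).comp (Cfsg.GSp m F₀).subtype).codRestrict _ (fun g => map_mem_GSp ι g.2)
  let f : ↥(Cfsg.GSp m F₀) →* ↥(Cfsg.inndiagPSp m F ⊓
      Subgroup.centralizer {(fieldAut σ : MulAut (Cfsg.PSp m F))}) :=
    (conj.comp f₀).codRestrict _ (fun g => ⟨by
      rw [inndiagPSp_eq_range]; exact ⟨_, rfl⟩, (commute_field_iff hm σ _).mpr ⟨1, by
        refine Subtype.ext ?_
        rw [Subgroup.coe_mul, coe_scalarG, map_one, one_mul]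
        ext i j
        exact (e (((g.1 : GL (Fin m ⊕ Fin m) F₀) : Matrix (Fin m ⊕ Fin m) (Fin m ⊕ Fin m) F₀) i j)).2⟩⟩)
  have hι : Function.Injective ι := ι.injective
  have hker : f.ker = (Cfsg.Geo.scalars (Fin m ⊕ Fin m) F₀).subgroupOf (Cfsg.GSp m F₀) := by
    ext g
    rw [MonoidHom.mem_ker, Subgroup.mem_subgroupOf, Cfsg.Geo.mem_scalars_iff]
    constructor
    · intro h
      obtain ⟨c, hc⟩ := (conj_eq_one_iff' hm).1 (congrArg Subtype.val h : conj (f₀ g) = 1)
      have hval := fun i j => congrArg (fun u : GS => (u.1 : Matrix (Fin m ⊕ Fin m) (Fin m ⊕ Fin m) F) i j) hc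
      let i₀ : Fin m ⊕ Fin m := .inl ⟨0, by omega⟩
      have hne : (g.1 : Matrix (Fin m ⊕ Fin m) (Fin m ⊕ Fin m) F₀) i₀ i₀ ≠ 0 := by
        intro h0
        have := hval i₀ i₀
        simp [f₀, scalarG, GeneralLinearGroup.coe_scalar, h0] at this
        exact c.ne_zero this.symm
      refine ⟨Units.mk0 _ hne, ?_⟩
      ext i j
      apply hι
      have h1 := hval i j
      have h0 := hval i₀ i₀
      simp [f₀, scalarG, GeneralLinearGroup.coe_scalar] at h0 h1 ⊢
      rcases eq_or_ne i j with rfl | hij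
      · simp at h1 ⊢; rw [h0, h1]
      · simp [hij] at h1 ⊢; exact h1
    · rintro ⟨c, hc⟩
      refine Subtype.ext ?_
      show conj (f₀ g) = 1
      refine (conj_eq_one_iff' hm).2 ⟨Units.map ι.toMonoidHom c, ?_⟩
      ext i j
      show ι ((g.1 : Matrix (Fin m ⊕ Fin m) (Fin m ⊕ Fin m) F₀) i j) = _
      rw [hc]
      rcases eq_or_ne i j with rfl | hij
      · simp [scalarG, GeneralLinearGroup.coe_scalar]
      · simp [scalarG, GeneralLinearGroup.coe_scalar, hij]
  have hsurj : Function.Surjective f := by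
    rintro ⟨y, hy1, hy2⟩
    rw [inndiagPSp_eq_range] at hy1
    obtain ⟨g, rfl⟩ := hy1
    obtain ⟨c, hc⟩ := (commute_field_iff hm σ g).mp hy2
    obtain ⟨μ, h, rfl, hh⟩ := exists_fixed_of_commute (by omega) σ hc
    have hmem : ∀ i j, (h.1 : Matrix (Fin m ⊕ Fin m) (Fin m ⊕ Fin m) F) i j ∈ fixedField σ := fun i j =>
      congrArg (fun u : GS => (u.1 : Matrix (Fin m ⊕ Fin m) (Fin m ⊕ Fin m) F) i j) hh
    let M : Matrix (Fin m ⊕ Fin m) (Fin m ⊕ Fin m) F₀ :=
      Matrix.of fun i j => e.symm ⟨(h.1 : Matrix (Fin m ⊕ Fin m) (Fin m ⊕ Fin m) F) i j, hmem i j⟩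
    have hM : M.map ι = (h.1 : Matrix (Fin m ⊕ Fin m) (Fin m ⊕ Fin m) F) := by
      ext i j
      show ((e (e.symm _) : ↥(fixedField σ)) : F) = _
      rw [e.apply_symm_apply]
    have hdet : M.det ≠ 0 := by
      intro h0
      apply GeneralLinearGroup.det_ne_zero h.1
      have := RingHom.map_det ι M
      rw [h0, map_zero] at this
      rw [← hM]; exact this.symm
    set M₁ : GL (Fin m ⊕ Fin m) F₀ := GeneralLinearGroup.mkOfDetNeZero M hdet with hM₁
    have hM₁h : GeneralLinearGroup.map ι M₁ = h.1 := Units.ext hM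
    have hm1 : 1 ≤ m := by omega
    have hfix : ((multHom hm1 h : Fˣ) : F) ∈ fixedField σ := by
      have := multHom_gspField hm1 σ h
      rw [hh] at this
      exact (congrArg Units.val this).symm
    have hne0 : e.symm ⟨((multHom hm1 h : Fˣ) : F), hfix⟩ ≠ 0 := fun h0 => by
      have := congrArg e h0
      rw [e.apply_symm_apply, map_zero] at this
      exact Units.ne_zero _ (congrArg Subtype.val this)
    have hmem' : M₁ ∈ Cfsg.GSp m F₀ := by
      refine (mem_GSp_iff_formOp _).2 ⟨Units.mk0 _ hne0, ?_⟩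
      refine Matrix.map_injective hι ?_
      show (PSLAut.formOp M₁ (Matrix.J (Fin m) F₀)).map ι = (_ • Matrix.J (Fin m) F₀).map ι
      rw [map_formOp, map_J, Matrix.map_smul' ι _ _ (map_mul ι), map_J, hM₁h, formOp_gsp hm1]
      congr 1
      show _ = ((e (e.symm _) : ↥(fixedField σ)) : F)
      rw [e.apply_symm_apply]
    refine ⟨⟨M₁, hmem'⟩, Subtype.ext ?_⟩
    show conj (f₀ ⟨M₁, hmem'⟩) = conj (scalarG m μ * h)
    rw [map_mul, conj_scalarG, one_mul]
    exact congrArg conj (Subtype.ext hM₁h)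
  (QuotientGroup.quotientMulEquivOfEq hker.symm).trans (QuotientGroup.quotientKerEquivOfSurjective f hsurj)

/-- Conjugation inside `Inndiag` carries one centraliser to the other. -/
noncomputable def centEquiv (k : GS) (x : MulAut (Cfsg.PSp m F)) :
    ↥(Cfsg.inndiagPSp m F ⊓ Subgroup.centralizer {x}) ≃*
      ↥(Cfsg.inndiagPSp m F ⊓ Subgroup.centralizer {conj k * x * (conj k)⁻¹}) where
  toFun y := ⟨conj k * y.1 * (conj k)⁻¹, by
    refine ⟨?_, Subgroup.mem_centralizer_singleton_iff.mpr ?_⟩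
    · show _ ∈ Cfsg.inndiagPSp m F
      have hk : (conj k : MulAut (Cfsg.PSp m F)) ∈ Cfsg.inndiagPSp m F := inndiagPSp_eq_range.ge ⟨k, rfl⟩
      exact mul_mem (mul_mem hk y.2.1) (inv_mem hk)
    · have h : y.1 * x = x * y.1 := Subgroup.mem_centralizer_singleton_iff.mp y.2.2
      calc conj k * y.1 * (conj k)⁻¹ * (conj k * x * (conj k)⁻¹) = conj k * (y.1 * x) * (conj k)⁻¹ := by group
        _ = _ := by rw [h]; group⟩
  invFun y := ⟨(conj k)⁻¹ * y.1 * conj k, by
    refine ⟨?_, Subgroup.mem_centralizer_singleton_iff.mpr ?_⟩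
    · show _ ∈ Cfsg.inndiagPSp m F
      have hk : (conj k : MulAut (Cfsg.PSp m F)) ∈ Cfsg.inndiagPSp m F := inndiagPSp_eq_range.ge ⟨k, rfl⟩
      exact mul_mem (mul_mem (inv_mem hk) y.2.1) hk
    · have h : y.1 * (conj k * x * (conj k)⁻¹) = conj k * x * (conj k)⁻¹ * y.1 :=
        Subgroup.mem_centralizer_singleton_iff.mp y.2.2
      calc (conj k)⁻¹ * y.1 * conj k * x
          = (conj k)⁻¹ * (y.1 * (conj k * x * (conj k)⁻¹)) * conj k := by group
        _ = _ := by rw [h]; group⟩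
  left_inv y := by ext1; show (conj k)⁻¹ * (conj k * y.1 * (conj k)⁻¹) * conj k = y.1; group
  right_inv y := by ext1; show conj k * ((conj k)⁻¹ * y.1 * conj k) * (conj k)⁻¹ = y.1; group
  map_mul' y z := by
    ext1
    show conj k * (y.1 * z.1) * (conj k)⁻¹ = conj k * y.1 * (conj k)⁻¹ * (conj k * z.1 * (conj k)⁻¹)
    group

/-! ### Splitting -/

theorem isConjUnder_iff_of_conj {X : Type*} [Group X] {H : Subgroup X} {k : X} (hk : k ∈ H) (x y : X) :
    Cfsg.IsConjUnder H (k * x * k⁻¹) y ↔ Cfsg.IsConjUnder H x y := by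
  constructor
  · rintro ⟨h, hh, rfl⟩; exact ⟨h * k, mul_mem hh hk, by group⟩
  · rintro ⟨h, hh, rfl⟩; exact ⟨h * k⁻¹, mul_mem hh (inv_mem hk), by group⟩

theorem splitClassCount_of_conj {X : Type*} [Group X] {H K : Subgroup X} {k : X} (hk : k ∈ H) (x : X) :
    Cfsg.splitClassCount H K (k * x * k⁻¹) = Cfsg.splitClassCount H K x := by
  unfold Cfsg.splitClassCount
  refine Nat.card_congr (Quot.congr
    (Equiv.subtypeEquivRight fun y => isConjUnder_iff_of_conj hk x y) fun a b => Iff.rfl)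

theorem index_split (hm : 2 ≤ m) (σ : F ≃+* F) :
    Cfsg.splitClassCount (gsRange m F) (Cfsg.Inn (Cfsg.PSp m F)) (fieldAut σ)
      = Nat.gcd 2 (fixedUnits σ).index := by
  haveI := normal_comap_inn (F := F) (m := m)
  have hm1 : 1 ≤ m := by omega
  rw [SplitClass.splitClassCount_range _ _ inn_le_range, comap_inn_eq hm]
  set C := (Subgroup.centralizer {(fieldAut σ : MulAut (Cfsg.PSp m F))}).comap (conj : GS →* _)
  have hs := multHom_surjective (F := F) hm1
  have h : (sqUnits F).comap (multHom hm1) ⊔ C = (sqUnits F ⊔ fixedUnits σ).comap (multHom hm1) := by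
    have h1 : (multHom hm1 : GS →* Fˣ).ker ≤ (sqUnits F).comap (multHom hm1) :=
      fun g hg => by simp [Subgroup.mem_comap, MonoidHom.mem_ker.mp hg, one_mem]
    conv_lhs => rw [← sup_eq_left.mpr (h1.trans le_sup_left : _ ≤ (sqUnits F).comap (multHom hm1) ⊔ C),
      ← Subgroup.comap_map_eq, Subgroup.map_sup, Subgroup.map_comap_eq_self_of_surjective hs]
    congr 1
    refine le_antisymm (sup_le le_sup_left ?_) (sup_le le_sup_left ?_)
    · rintro _ ⟨g, hg, rfl⟩
      obtain ⟨c, hc⟩ := (commute_field_iff hm σ g).mp hg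
      obtain ⟨μ, h, rfl, hh⟩ := exists_fixed_of_commute hm1 σ hc
      rw [map_mul, multHom_scalarG]
      refine mul_mem (Subgroup.mem_sup_left ⟨μ, by rw [powMonoidHom_apply, sq]⟩) (Subgroup.mem_sup_right ?_)
      have := multHom_gspField hm1 σ h
      rw [hh] at this
      exact (congrArg Units.val this).symm
    · intro c hc
      refine Subgroup.mem_sup_right ?_
      let D : GS := ⟨_, sympScale_mem c⟩
      refine ⟨D, (commute_field_iff hm σ D).mpr ⟨1, ?_⟩, mult_eq_of_formOp hm1 _ c (PSLAut.formOp_sympScale m c)⟩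
      refine Subtype.ext ?_
      rw [Subgroup.coe_mul, coe_scalarG, map_one, one_mul]
      ext i j
      show σ (Matrix.diagonal _ i j) = Matrix.diagonal _ i j
      rcases eq_or_ne i j with rfl | h
      · rw [Matrix.diagonal_apply_eq]
        rcases i with i | i <;> simp [mem_fixedUnits.mp hc]
      · simp [Matrix.diagonal_apply_ne _ h]
  rw [h, Subgroup.index_comap_of_surjective _ hs, SplitClass.index_powRange_sup]

theorem gcd_two_index {p f r : ℕ} [Fact p.Prime] (σ : F ≃+* F) (hF : Fintype.card F = p ^ f)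
    (hσ : orderOf σ = r) (hr : r.Prime) :
    Nat.gcd 2 (fixedUnits σ).index = Nat.gcd (Nat.gcd 2 (p ^ f - 1)) r := by
  obtain ⟨hdvd, hQ, hidx⟩ := PSLAut.index_fixedUnits σ hF hσ hr.pos
  obtain ⟨k, rfl⟩ := hdvd
  rw [Nat.mul_div_cancel_left _ hr.pos] at hidx
  have hp := (Fact.out : p.Prime)
  have hgeom : (p ^ (r * k) - 1) / (p ^ k - 1) = ∑ i ∈ Finset.range r, (p ^ k) ^ i := by
    have hk : 2 ≤ p ^ k := by
      rcases Nat.eq_zero_or_pos k with h0 | h0
      · subst h0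
        have := Fintype.one_lt_card (α := F)
        rw [hF] at this; simp at this
      · calc 2 ≤ p := hp.two_le
          _ = p ^ 1 := (pow_one p).symm
          _ ≤ p ^ k := Nat.pow_le_pow_right hp.pos h0
    rw [Nat.geomSum_eq hk, ← pow_mul, mul_comm k r]
  rw [hidx, hgeom]
  rcases hp.eq_two_or_odd' with h2 | hodd
  · subst h2
    have hne : r * k ≠ 0 := fun h0 => by
      have := Fintype.one_lt_card (α := F); rw [hF, h0] at this; simp at this
    have h1 : Nat.gcd 2 (2 ^ (r * k) - 1) = 1 :=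
      Nat.prime_two.coprime_iff_not_dvd.2 (fun hd => by
        obtain ⟨a, ha⟩ := hd
        obtain ⟨b, hb⟩ : 2 ∣ 2 ^ (r * k) := dvd_pow_self 2 hne
        have : 1 ≤ 2 ^ (r * k) := Nat.one_le_two_pow
        omega)
    rw [h1, Nat.gcd_one_left]
    refine Nat.prime_two.coprime_iff_not_dvd.2 ?_
    rw [← even_iff_two_dvd, Nat.not_even_iff_odd, Nat.odd_iff, Finset.sum_nat_mod]
    have hk0 : k ≠ 0 := fun h0 => hne (by rw [h0, mul_zero])
    rw [Finset.sum_eq_single 0]
    · simp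
    · intro i _ hi
      rw [← pow_mul]
      exact Nat.mod_eq_zero_of_dvd (dvd_pow_self 2 (Nat.mul_ne_zero hk0 hi))
    · intro h0; exact absurd (Finset.mem_range.2 hr.pos) h0
  · have h1 : Nat.gcd 2 (p ^ (r * k) - 1) = 2 := by
      apply Nat.gcd_eq_left
      have : Odd (p ^ (r * k)) := hodd.pow
      obtain ⟨a, ha⟩ := this
      omega
    rw [h1]
    have hs : (∑ i ∈ Finset.range r, (p ^ k) ^ i) % 2 = r % 2 := by
      rw [Finset.sum_nat_mod, Finset.sum_congr rfl fun i _ => Nat.odd_iff.1 (hodd.pow.pow (n := i)),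
        Finset.sum_const, Finset.card_range, smul_eq_mul, mul_one]
    rw [Nat.gcd_rec 2 (∑ i ∈ Finset.range r, (p ^ k) ^ i), hs, ← Nat.gcd_rec]

/-- The statement about a field automorphism of prime order, assembled. -/
theorem field_auto_main {p f r : ℕ} [Fact p.Prime] (hF : Fintype.card F = p ^ f) (hm : 2 ≤ m)
    (hs : m = 2 → 3 ≤ Fintype.card F) (x : MulAut (Cfsg.PSp m F)) (hx : Cfsg.IsFieldAutClassPSp x)
    (hr : r.Prime) (hxr : orderOf x = r) (F₀ : Type*) [Field F₀] [Fintype F₀]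
    (hF₀ : Fintype.card F₀ = p ^ (f / r)) :
    r ∣ f ∧ Nonempty (↥(Cfsg.inndiagPSp m F ⊓ Subgroup.centralizer {x}) ≃* Cfsg.PGSp m F₀) ∧
      Cfsg.splitClassCount (Cfsg.inndiagPSp m F) (Cfsg.Inn (Cfsg.PSp m F)) x
        = Nat.gcd (Nat.gcd 2 (p ^ f - 1)) r := by
  obtain ⟨σ, k, -, rfl⟩ := exists_conj_form hm hs hx
  rw [orderOf_conj_form hm] at hxr
  obtain ⟨hdvd, hQ, -⟩ := PSLAut.index_fixedUnits σ hF hxr hr.pos
  refine ⟨hdvd, ⟨((fieldCentEquiv hm σ F₀ (by rw [hF₀, hQ])).trans (centEquiv k _)).symm⟩, ?_⟩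
  rw [inndiagPSp_eq_range, splitClassCount_of_conj (H := (gsRange m F)) ⟨k, rfl⟩, index_split hm,
    gcd_two_index σ hF hxr hr]

theorem orderOf_iff_isConjUnder (hm : 2 ≤ m) (hs : m = 2 → 3 ≤ Fintype.card F)
    (x δ : MulAut (Cfsg.PSp m F)) (hx : Cfsg.IsFieldAutClassPSp x) {r : ℕ} (hxr : orderOf x = r)
    (hδ : δ ∈ Cfsg.inndiagPSp m F) :
    orderOf (δ * x) = r ↔ Cfsg.IsConjUnder (Cfsg.inndiagPSp m F) x (δ * x) := by
  constructor
  · intro h
    obtain ⟨σ, k, -, rfl⟩ := exists_conj_form hm hs hx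
    rw [orderOf_conj_form hm] at hxr
    rw [inndiagPSp_eq_range] at hδ ⊢
    obtain ⟨d, rfl⟩ := hδ
    rw [isConjUnder_iff_of_conj (H := gsRange m F) ⟨k, rfl⟩]
    set g : GS := k⁻¹ * d * k with hg
    have he : conj d * (conj k * fieldAut σ * (conj k)⁻¹)
        = conj k * (conj g * fieldAut σ) * (conj k)⁻¹ := by
      rw [hg, map_mul, map_mul, map_inv]; group
    have hord : orderOf (conj g * fieldAut σ : MulAut (Cfsg.PSp m F)) = r := by
      rw [← MulEquiv.orderOf_eq (MulAut.conj (conj k : MulAut (Cfsg.PSp m F)))]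
      show orderOf (conj k * (conj g * fieldAut σ) * (conj k)⁻¹) = r
      rw [← he, h]
    obtain ⟨t, ht⟩ := field_order_imp_conj hm σ g (by rw [hxr, ← hord, pow_orderOf_eq_one])
    exact ⟨conj k * conj t, ⟨k * t, map_mul _ _ _⟩, by rw [he, ht]; group⟩
  · rintro ⟨h, -, he⟩
    rw [he, show h * x * h⁻¹ = MulAut.conj h x from rfl, MulEquiv.orderOf_eq, hxr]

end Cfsg.Agent.Lib.PSpAut
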